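import Cfsg.Agent.OddBase.BlockPair
import Mathlib.GroupTheory.GroupAction.Blocks

/-!
Blocks may be merged until the group on them is primitive.
-/

set_option autoImplicit false
set_option linter.unusedSectionVars false
set_option linter.style.haveILetI false

universe u

namespace CfsgLib.StabLength

open OddBase
open scoped Classical Pointwise

variable {V : Type u} [AddCommGroup V] {A : Subgroup (Aut V)}

/-- Merging the members of a proper block gives a system with fewer blocks. -/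
lemma exists_merge (Bk : Blocks A) {B : Set Bk.O} (hB : MulAction.IsBlock Bk.perm.range B)
    (hns : ¬ B.Subsingleton) (huniv : B ≠ Set.univ) : ∃ Bk' : Blocks A, Bk'.O.card < Bk.O.card := by
  obtain ⟨b, hbB, b', hb'B, hbb⟩ := Set.not_subsingleton_iff.mp hns
  obtain ⟨c, hc⟩ := (Set.ne_univ_iff_exists_notMem _).mp huniv
  let cls : Bk.perm.range → Finset Bk.O := fun g => Finset.univ.filter fun i => i ∈ g • B
  let q : Finset Bk.O → AddMonoid.End V := fun s => ∑ i ∈ s, (i : AddMonoid.End V)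
  have hmem : ∀ g i, i ∈ cls g ↔ i ∈ g • B := fun g i => by simp [cls]
  have htr : ∀ i j : Bk.O, ∃ g : Bk.perm.range, g • i = j := fun i j => by
    obtain ⟨a, ha, hae⟩ := Bk.trans i i.2 j j.2
    exact ⟨⟨_, ⟨a, ha⟩, rfl⟩, Subtype.ext hae⟩
  have hmul : ∀ (s : Finset Bk.O) (j : Bk.O),
      q s * (j : AddMonoid.End V) = if j ∈ s then (j : AddMonoid.End V) else 0 := by
    intro s j
    simp only [q, Finset.sum_mul]
    split_ifs with h
    · rw [Finset.sum_eq_single j (fun i _ hij => Bk.orth i i.2 j j.2 fun e => hij (Subtype.ext e))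
        (fun h' => absurd h h'), Bk.idem j j.2]
    · exact Finset.sum_eq_zero fun i hi =>
        Bk.orth i i.2 j j.2 fun e => h (Subtype.ext e ▸ hi)
  have hq2 : ∀ s t : Finset Bk.O, q s * q t = q (s ∩ t) := by
    intro s t
    show q s * (∑ j ∈ t, (j : AddMonoid.End V)) = q (s ∩ t)
    rw [Finset.mul_sum, Finset.sum_congr rfl fun j _ => hmul s j, ← Finset.sum_filter,
      Finset.filter_mem_eq_inter, Finset.inter_comm]
  have hqne : ∀ g, q (cls g) ≠ 0 := fun g h => by
    have h1 := hmul (cls g) (g • b)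
    rw [if_pos ((hmem _ _).mpr (Set.smul_mem_smul_set hbB)), h, zero_mul] at h1
    exact Bk.ne_zero _ (g • b).2 h1.symm
  let 𝔅 : Finset (Finset Bk.O) := Finset.univ.image cls
  have hdisj : ∀ g g', cls g ≠ cls g' → Disjoint (cls g) (cls g') := by
    intro g g' hne
    rw [Finset.disjoint_left]
    intro i hi hi'
    by_cases e : g • B = g' • B
    · exact hne (Finset.ext fun j => by rw [hmem, hmem, e])
    · exact Set.disjoint_left.mp (hB e) ((hmem _ _).mp hi) ((hmem _ _).mp hi')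
  have hinj : ∀ g g', q (cls g) = q (cls g') → cls g = cls g' := by
    intro g g' h
    ext j
    have h1 := hmul (cls g) j
    rw [h, hmul] at h1
    by_cases hj : j ∈ cls g <;> by_cases hj' : j ∈ cls g' <;> simp only [hj, hj', if_true, if_false] at h1 ⊢
    · exact absurd h1.symm (Bk.ne_zero _ j.2)
    · exact absurd h1 (Bk.ne_zero _ j.2)
  have hcj : ∀ (a : A) (g : Bk.perm.range),
      cj (a : Aut V) (q (cls g)) = q (cls (⟨_, ⟨a, rfl⟩⟩ * g : Bk.perm.range)) := by
    intro a g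
    simp only [q, map_sum]
    refine Finset.sum_bij (fun i _ => Bk.perm a i) (fun i hi => ?_) (fun i _ j _ h => (Bk.perm a).injective h)
      (fun j hj => ?_) (fun i _ => rfl)
    · rw [hmem] at hi ⊢
      rw [mul_smul]
      exact Set.smul_mem_smul_set hi
    · rw [hmem, mul_smul] at hj
      obtain ⟨i, hi, hij⟩ := hj
      exact ⟨i, (hmem _ _).mpr hi, hij⟩
  let O' : Finset (AddMonoid.End V) := 𝔅.image q
  have hO' : ∀ x, x ∈ O' ↔ ∃ g, q (cls g) = x := fun x => by simp [O', 𝔅]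
  have hcover : 𝔅.biUnion id = Finset.univ := by
    refine Finset.eq_univ_of_forall fun i => ?_
    obtain ⟨g, hg⟩ := htr b i
    simp only [Finset.mem_biUnion, 𝔅, Finset.mem_image, Finset.mem_univ, true_and, id]
    exact ⟨cls g, ⟨g, rfl⟩, (hmem _ _).mpr (hg ▸ Set.smul_mem_smul_set hbB)⟩
  refine ⟨⟨O', ?_, ?_, ?_, ?_, ?_, ?_, ?_⟩, ?_⟩
  · obtain ⟨g, hg⟩ := htr b c
    refine Finset.one_lt_card.mpr ⟨_, (hO' _).mpr ⟨1, rfl⟩, _, (hO' _).mpr ⟨g, rfl⟩, fun e => hc ?_⟩
    have h := (hmem g c).mpr (hg ▸ Set.smul_mem_smul_set hbB)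
    rw [← hinj _ _ e, hmem, one_smul] at h
    exact h
  · intro x hx y hy hxy
    obtain ⟨g, rfl⟩ := (hO' x).mp hx
    obtain ⟨g', rfl⟩ := (hO' y).mp hy
    rw [hq2, Finset.disjoint_iff_inter_eq_empty.mp (hdisj g g' fun e => hxy (by rw [e]))]
    exact Finset.sum_empty
  · intro x hx
    obtain ⟨g, rfl⟩ := (hO' x).mp hx
    rw [hq2, Finset.inter_self]
  · intro x hx
    obtain ⟨g, rfl⟩ := (hO' x).mp hx
    exact hqne g
  · rw [Finset.sum_image fun s hs t ht e => by
      simp only [𝔅, Finset.mem_coe, Finset.mem_image, Finset.mem_univ, true_and] at hs ht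
      obtain ⟨g, rfl⟩ := hs
      obtain ⟨g', rfl⟩ := ht
      exact hinj g g' e]
    show ∑ s ∈ 𝔅, ∑ i ∈ id s, (i : AddMonoid.End V) = 1
    rw [← Finset.sum_biUnion, hcover]
    · exact (Finset.sum_coe_sort Bk.O id).trans Bk.sum_eq
    · intro s hs t ht hst
      simp only [𝔅, Finset.mem_coe, Finset.mem_image, Finset.mem_univ, true_and] at hs ht
      obtain ⟨g, rfl⟩ := hs
      obtain ⟨g', rfl⟩ := ht
      exact hdisj g g' hst
  · intro a ha x hx
    obtain ⟨g, rfl⟩ := (hO' x).mp hx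
    exact (hO' _).mpr ⟨_, (hcj ⟨a, ha⟩ g).symm⟩
  · intro x hx y hy
    obtain ⟨g, rfl⟩ := (hO' x).mp hx
    obtain ⟨g', rfl⟩ := (hO' y).mp hy
    obtain ⟨a, ha⟩ := (g' * g⁻¹).2
    refine ⟨a, a.2, (hcj a g).trans ?_⟩
    congr 2
    have : (⟨_, ⟨a, rfl⟩⟩ : Bk.perm.range) = g' * g⁻¹ := Subtype.ext ha
    rw [this, inv_mul_cancel_right]
  · have h2 : ∀ s ∈ 𝔅, 2 ≤ s.card := by
      intro s hs
      simp only [𝔅, Finset.mem_image, Finset.mem_univ, true_and] at hs
      obtain ⟨g, rfl⟩ := hs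
      exact Finset.one_lt_card.mpr ⟨g • b, (hmem _ _).mpr (Set.smul_mem_smul_set hbB), g • b',
        (hmem _ _).mpr (Set.smul_mem_smul_set hb'B), fun e => hbb (smul_left_cancel g e)⟩
    have hsum : (𝔅.biUnion id).card = ∑ s ∈ 𝔅, s.card := Finset.card_biUnion fun s hs t ht hst => by
      simp only [𝔅, Finset.mem_coe, Finset.mem_image, Finset.mem_univ, true_and] at hs ht
      obtain ⟨g, rfl⟩ := hs
      obtain ⟨g', rfl⟩ := ht
      exact hdisj g g' hst
    rw [hcover, Finset.card_univ, Fintype.card_coe] at hsum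
    have h3 : 𝔅.card * 2 ≤ ∑ s ∈ 𝔅, s.card := by
      simpa [smul_eq_mul] using Finset.card_nsmul_le_sum 𝔅 (fun s => s.card) 2 h2
    have h4 : O'.card ≤ 𝔅.card := Finset.card_image_le
    have := Bk.two
    show O'.card < Bk.O.card
    omega

/-- Some system of blocks is permuted primitively. -/
theorem exists_prim_blocks (Bk : Blocks A) :
    ∃ Bk' : Blocks A, ∀ B : Set Bk'.O, MulAction.IsBlock Bk'.perm.range B → B.Subsingleton ∨ B = Set.univ := by
  induction hn : Bk.O.card using Nat.strong_induction_on generalizing Bk with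
  | _ n ih =>
    by_cases h : ∀ B : Set Bk.O, MulAction.IsBlock Bk.perm.range B → B.Subsingleton ∨ B = Set.univ
    · exact ⟨Bk, h⟩
    push Not at h
    obtain ⟨B, hB, hns, huniv⟩ := h
    obtain ⟨Bk', hlt⟩ := exists_merge Bk hB (Set.not_subsingleton_iff.mpr hns) huniv
    exact ih _ (hn ▸ hlt) Bk' rfl

end CfsgLib.StabLength
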