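import Cfsg.Agent.StabLength.BlockGood
import Cfsg.Agent.StabLength.Coarse
import Cfsg.Agent.OddBase.Prim
import Mathlib.Algebra.Module.ZMod

/-!
Assembly of S4070 from the pieces.
-/

set_option autoImplicit false
set_option linter.unusedSectionVars false
set_option linter.style.haveILetI false

universe u v

namespace CfsgLib.StabLength

open OddBase

/-- The primitive case. -/
def PrimGood : Prop :=
  ∀ (V : Type u) [AddCommGroup V] [Finite V] [Nontrivial V] (A : Subgroup (Aut V)),
    Group.IsSolvable A → AllFields A → Good A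

/-- Irreducible soluble groups are good. -/
theorem good_irr (hsub : SubsetBound.{u}) (hprim : PrimGood.{u}) : ∀ (n : ℕ) (V : Type u)
    [AddCommGroup V] [Finite V] [Nontrivial V], Nat.card V = n → ∀ A : Subgroup (Aut V),
      Group.IsSolvable A → Irr A → Good A := by
  intro n
  induction n using Nat.strong_induction_on with
  | _ n ih =>
    intro V _ _ _ hn A hsol hirr
    by_cases hB : Nonempty (Blocks A)
    · obtain ⟨Bk0⟩ := hB
      obtain ⟨Bk, hBk⟩ := exists_prim_blocks Bk0
      have hlt : Nat.card Bk.space < n := by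
        rw [← hn, Bk.card_eq]
        calc Nat.card Bk.space = Nat.card Bk.space ^ 1 := (pow_one _).symm
          _ < _ := Nat.pow_lt_pow_right Bk.two_le_space Bk.two
      haveI : Nontrivial Bk.space := Finite.one_lt_card_iff_nontrivial.mp Bk.two_le_space
      haveI := hsol
      have hTsol : Group.IsSolvable Bk.stab :=
        Group.isSolvable_of_isSolvable_injective (Subgroup.inclusion_injective (show Bk.stab ≤ A from fun a ha => ha.1))
      exact good_blocks Bk hsub hsol hBk
        (ih _ hlt Bk.space rfl _ (solvable_range _ hTsol) (Bk.irr_space hirr))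
    · exact hprim V A hsol fun B hBn hBc => (blocks_or_field hirr hBn hBc).resolve_left hB

/-- Splitting a fixed sum. -/
lemma stab_sum {V : Type u} [AddCommGroup V] {A : Subgroup (Aut V)} {U W : AddSubgroup V}
    (hU : Inv A U) (hW : Inv A W) (hd : U ⊓ W = ⊥) {x : U} {y : W} {a : A}
    (h : (a : Aut V) • ((x : V) + y) = x + y) : res A U hU a • x = x ∧ res A W hW a • y = y := by
  rw [smul_add] at h
  have hm : (a : Aut V) • (x : V) - x ∈ U ⊓ W := by
    refine ⟨U.sub_mem (hU a a.2 x x.2) x.2, ?_⟩
    have hr : (a : Aut V) • (x : V) - x = (y : V) - (a : Aut V) • (y : V) := by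
      rw [sub_eq_sub_iff_add_eq_add, h, add_comm]
    rw [hr]
    exact W.sub_mem y.2 (hW a a.2 y y.2)
  rw [hd, AddSubgroup.mem_bot, sub_eq_zero] at hm
  refine ⟨Subtype.ext hm, Subtype.ext ?_⟩
  rw [hm] at h
  exact add_left_cancel h

/-- A completely reducible soluble group has a stabiliser of derived length at most nine. -/
theorem exists_vector (hsub : SubsetBound.{u}) (hprim : PrimGood.{u}) : ∀ (n : ℕ) (V : Type u)
    [AddCommGroup V] [Finite V], Nat.card V = n → ∀ A : Subgroup (Aut V),
      Group.IsSolvable A → CR A → ∃ v : V, DL (stabV A v) 9 := by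
  intro n
  induction n using Nat.strong_induction_on with
  | _ n ih =>
    intro V _ _ hn A hsol hcr
    rcases subsingleton_or_nontrivial V with hV | hV
    · have : Subsingleton (Aut V) := ⟨fun a b => aut_ext fun v => Subsingleton.elim _ _⟩
      exact ⟨0, DL.of_subsingleton 9⟩
    by_cases hirr : Irr A
    · exact (good_irr hsub hprim n V hn A hsol hirr).exists_vector
    unfold Irr at hirr
    push Not at hirr
    obtain ⟨U, hU, hU0, hU1⟩ := hirr
    obtain ⟨W, hW, hd, hs⟩ := hcr U hU
    have hlt : ∀ X : AddSubgroup V, X ≠ ⊤ → Nat.card X < n := fun X hX =>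
      hn ▸ lt_of_le_of_ne (Nat.card_le_card_of_injective _ Subtype.val_injective)
        (fun e => hX (AddSubgroup.eq_top_of_card_eq X e))
    have hW1 : W ≠ ⊤ := by rintro rfl; rw [inf_top_eq] at hd; exact hU0 hd
    obtain ⟨x, hx⟩ := ih _ (hlt U hU1) U rfl _ (solvable_range _ hsol) (hcr.res hU)
    obtain ⟨y, hy⟩ := ih _ (hlt W hW1) W rfl _ (solvable_range _ hsol) (hcr.res hW)
    refine ⟨(x : V) + y, ?_⟩
    let ι : stabV A ((x : V) + y) →* A := Subgroup.inclusion inf_le_left
    let f : stabV A ((x : V) + y) →*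
        stabV (res A U hU).range x × stabV (res A W hW).range y :=
      MonoidHom.prod
        (((res A U hU).comp ι).codRestrict _ fun a =>
          ⟨⟨_, rfl⟩, (stab_sum hU hW hd (a := ι a) a.2.2).1⟩)
        (((res A W hW).comp ι).codRestrict _ fun a =>
          ⟨⟨_, rfl⟩, (stab_sum hU hW hd (a := ι a) a.2.2).2⟩)
    refine (hx.prod hy).of_injective f ((injective_iff_map_eq_one f).mpr fun a ha => ?_)
    simp only [Prod.ext_iff] at ha
    refine Subgroup.inclusion_injective inf_le_left ?_
    exact (eq_one_of_res hU hW hs (ι a) (congrArg Subtype.val ha.1) (congrArg Subtype.val ha.2)).trans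
      (map_one _).symm

/-- The statement from the pieces. -/
theorem main_of_pieces (hsub : SubsetBound.{v}) (hprim : PrimGood.{v}) (hodd : OddHalf.{v})
    {G : Type u} {V : Type v} [Group G] [Finite G] [Group.IsSolvable G]
    {p : ℕ} [Fact p.Prime] [AddCommGroup V] [Module (ZMod p) V] [Finite V] [DistribMulAction G V]
    [FaithfulSMul G V]
    (hcr : ∀ W : Submodule (ZMod p) V, (∀ (g : G) (w : V), w ∈ W → g • w ∈ W) →
      ∃ W' : Submodule (ZMod p) V, (∀ (g : G) (w : V), w ∈ W' → g • w ∈ W') ∧ IsCompl W W') :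
    (∃ v : V, derivedSeries ↥(MulAction.stabilizer G v) 9 = ⊥) ∧
    (Odd (Nat.card G) → p ≠ 2 → ∃ v : V, IsMulCommutative ↥(MulAction.stabilizer G v)) := by
  let φ : G →* Aut V := MonoidHom.toHomUnits (DistribMulAction.toAddMonoidEnd G V)
  have hφ : ∀ (g : G) (v : V), φ g • v = g • v := fun g v => rfl
  have hinj : Function.Injective φ := fun g h e => eq_of_smul_eq_smul fun v => by
    rw [← hφ g, e, hφ]
  have hsol : Group.IsSolvable φ.range := solvable_range φ inferInstance
  have hCR : CR φ.range := by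
    intro U hU
    obtain ⟨W', hW', hc⟩ := hcr (AddSubgroup.toZModSubmodule p U)
      (fun g w hw => hU _ ⟨g, rfl⟩ w hw)
    refine ⟨W'.toAddSubgroup, ?_, ?_, ?_⟩
    · rintro _ ⟨g, rfl⟩ w hw; exact hW' g w hw
    · refine (AddSubgroup.eq_bot_iff_forall _).mpr fun w hw => ?_
      exact (Submodule.mem_bot (ZMod p)).mp (hc.disjoint.le_bot ⟨hw.1, hw.2⟩)
    · refine eq_top_iff.mpr fun w _ => ?_
      obtain ⟨a, ha, b, hb, hab⟩ := Submodule.mem_sup.mp
        (show w ∈ AddSubgroup.toZModSubmodule p U ⊔ W' by rw [hc.sup_eq_top]; trivial)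
      exact AddSubgroup.mem_sup.mpr ⟨a, ha, b, hb, hab⟩
  let f : ∀ v : V, MulAction.stabilizer G v →* stabV φ.range v := fun v =>
    (φ.comp (MulAction.stabilizer G v).subtype).codRestrict _ fun g => ⟨⟨_, rfl⟩, g.2⟩
  have hf : ∀ v, Function.Injective (f v) := fun v g h e =>
    Subtype.ext (hinj (congrArg Subtype.val e))
  refine ⟨?_, fun ho hp2 => ?_⟩
  · obtain ⟨v, hv⟩ := exists_vector hsub hprim _ V rfl _ hsol hCR
    exact ⟨v, hv.of_injective (f v) (hf v)⟩
  · obtain ⟨v, hv⟩ := hodd V φ.range hsol (odd_range φ ho) hCR p Fact.out hp2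
      (fun v => ZModModule.char_nsmul_eq_zero p v)
    exact ⟨v, ⟨⟨fun a b => hf v (by rw [map_mul, map_mul]; exact Subtype.ext (hv _ (f v a).2 _ (f v b).2))⟩⟩⟩

end CfsgLib.StabLength
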