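import Cfsg.Agent.StabLength.BlockGood
import Cfsg.Agent.SolvBase.Main

/-!
Five subsets with small setwise stabilisers in a soluble primitive group.
-/

set_option autoImplicit false
set_option linter.unusedSectionVars false
set_option linter.style.haveILetI false

universe u

namespace CfsgLib.StabLength.Subsets

open OddBase Equiv
open scoped Pointwise Classical IsMulCommutative

variable {Ω : Type u} [Finite Ω]

lemma dl_perm_small_card {X : Type*} [Finite X] (hX : Nat.card X ≤ 3) (S : Subgroup (Perm X)) :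
    DL S 2 := by
  rcases (show Nat.card X ≤ 1 ∨ Nat.card X = 2 ∨ Nat.card X = 3 by omega) with e | e | e
  · have := Finite.card_le_one_iff_subsingleton.mp e
    exact DL.of_subsingleton 2
  · exact (dl_perm_two e S).mono (by norm_num)
  · exact dl_perm_three e S

/-- The regular elementary abelian normal subgroup. -/
lemma exists_regular (S : Subgroup (Perm Ω)) (hsol : Group.IsSolvable S) [Nontrivial S]
    [MulAction.IsPretransitive S Ω]
    (hprim : ∀ B : Set Ω, MulAction.IsBlock S B → B.Subsingleton ∨ B = Set.univ) :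
    ∃ N : Subgroup S, N.Normal ∧ (∀ a ∈ N, ∀ b ∈ N, a * b = b * a) ∧
      (∃ r : ℕ, r.Prime ∧ ∀ a ∈ N, a ^ r = 1) ∧
      ∀ x : Ω, Function.Bijective fun a : N => ((a : S) : Perm Ω) x := by
  haveI := hsol
  have htop : (⊤ : Subgroup S) ≠ ⊥ := top_ne_bot
  haveI : Group.IsSolvable (⊤ : Subgroup S) :=
    Group.isSolvable_of_isSolvable_injective (Subgroup.subtype_injective (⊤ : Subgroup S))
  obtain ⟨N, hNn, hN0, -, hNc, -, r, hr, hexp, -⟩ :=
    CfsgLib.Solvable.exists_normal_elementary_le (N := (⊤ : Subgroup S)) htop inferInstance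
  have htrans : ∀ x y : Ω, ∃ a ∈ N, (a : Perm Ω) x = y := by
    intro x y
    rcases hprim _ (MulAction.IsBlock.orbit_of_normal (N := N) x) with hsub | huniv
    · exfalso
      refine hN0 (Subgroup.eq_bot_iff_forall _ |>.mpr fun a ha => Subtype.ext (Perm.ext fun z => ?_))
      obtain ⟨g, rfl⟩ := MulAction.exists_smul_eq S x z
      have h1 := hsub (show ((⟨g⁻¹ * a * g, by simpa using hNn.conj_mem a ha g⁻¹⟩ : N) • x) ∈
        MulAction.orbit N x from ⟨_, rfl⟩) (MulAction.mem_orbit_self x)
      change (g⁻¹ * a * g) • x = x at h1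
      show a • g • x = g • x
      rw [mul_smul, mul_smul, inv_smul_eq_iff] at h1
      exact h1
    · obtain ⟨⟨a, ha⟩, hay⟩ : y ∈ MulAction.orbit N x := by rw [huniv]; trivial
      exact ⟨a, ha, hay⟩
  have hcomm : ∀ a ∈ N, ∀ b ∈ N, a * b = b * a := fun a ha b hb =>
    congrArg Subtype.val (hNc.is_comm.comm ⟨a, ha⟩ ⟨b, hb⟩)
  refine ⟨N, hNn, hcomm, ⟨r, hr, hexp⟩, fun x => ⟨fun a b h => ?_, fun y => ?_⟩⟩
  · have h' : ((a : S) : Perm Ω) x = ((b : S) : Perm Ω) x := h
    refine Subtype.ext (Subtype.ext (Perm.ext fun z => ?_))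
    obtain ⟨c, hc, rfl⟩ := htrans x z
    show ((a : S) : Perm Ω) ((c : Perm Ω) x) = ((b : S) : Perm Ω) ((c : Perm Ω) x)
    rw [← Perm.mul_apply, ← Subgroup.coe_mul, hcomm _ a.2 c hc, Subgroup.coe_mul, Perm.mul_apply, h',
      ← Perm.mul_apply, ← Subgroup.coe_mul, ← hcomm _ b.2 c hc, Subgroup.coe_mul, Perm.mul_apply]
  · obtain ⟨a, ha, h⟩ := htrans x y
    exact ⟨⟨a, ha⟩, h⟩

/-- The stabiliser of a point acting on the regular normal subgroup. -/
noncomputable def conjHom {S : Subgroup (Perm Ω)} (N : Subgroup S) [hN : N.Normal]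
    [IsMulCommutative N] (x : Ω) :
    MulAction.stabilizer S x →* Aut (Additive N) :=
  MonoidHom.toHomUnits
    { toFun := fun g => MonoidHom.toAdditive (MulAut.conjNormal (g : S) : N ≃* N).toMonoidHom
      map_one' := AddMonoidHom.ext fun a => Additive.toMul.injective
        (show MulAut.conjNormal ((1 : MulAction.stabilizer S x) : S) (Additive.toMul a) = Additive.toMul a by
          rw [OneMemClass.coe_one, map_one]; rfl)
      map_mul' := fun g h => AddMonoidHom.ext fun a => Additive.toMul.injective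
        (show MulAut.conjNormal ((g * h : MulAction.stabilizer S x) : S) (Additive.toMul a) =
          MulAut.conjNormal (g : S) (MulAut.conjNormal (h : S) (Additive.toMul a)) by
          rw [Subgroup.coe_mul, map_mul]; rfl) }

lemma conjHom_smul {S : Subgroup (Perm Ω)} (N : Subgroup S) [hN : N.Normal]
    [IsMulCommutative N] (x : Ω)
    (g : MulAction.stabilizer S x) (a : Additive N) :
    ((Additive.toMul (conjHom N x g • a) : N) : S) = (g : S) * (Additive.toMul a : N) * (g : S)⁻¹ :=
  MulAut.conjNormal_apply _ _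

lemma conjHom_injective {S : Subgroup (Perm Ω)} (N : Subgroup S) [hN : N.Normal]
    [IsMulCommutative N] (x : Ω)
    (hreg : Function.Surjective fun a : N => ((a : S) : Perm Ω) x) :
    Function.Injective (conjHom N x) := by
  refine (injective_iff_map_eq_one _).mpr fun g hg => Subtype.ext (Subtype.ext (Perm.ext fun z => ?_))
  obtain ⟨a, rfl⟩ := hreg z
  have h := conjHom_smul N x g (Additive.ofMul a)
  rw [hg, one_smul] at h
  have hgx : ((g : S) : Perm Ω) x = x := g.2
  have h2 : (g : S) * (a : S) = (a : S) * (g : S) := (eq_mul_inv_iff_mul_eq.mp h).symm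
  show ((g : S) : Perm Ω) (((a : S) : Perm Ω) x) = ((a : S) : Perm Ω) x
  rw [← Perm.mul_apply, ← Subgroup.coe_mul, h2, Subgroup.coe_mul, Perm.mul_apply, hgx]

/-- Prime degree. -/
lemma dl_prime (S : Subgroup (Perm Ω)) (hsol : Group.IsSolvable S) [MulAction.IsPretransitive S Ω]
    (hp : (Nat.card Ω).Prime) : DL S 2 := by
  rcases subsingleton_or_nontrivial S with hS | hS
  · exact DL.of_subsingleton 2
  have hprim : ∀ B : Set Ω, MulAction.IsBlock S B → B.Subsingleton ∨ B = Set.univ := fun B hB =>
    (MulAction.IsPreprimitive.of_prime_card hp).isTrivialBlock_of_isBlock hB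
  obtain ⟨N, hN, hcomm, -, hreg⟩ := exists_regular S hsol hprim
  haveI : IsMulCommutative N := ⟨⟨fun a b => Subtype.ext (hcomm a a.2 b b.2)⟩⟩
  obtain ⟨x⟩ : Nonempty Ω := (Finite.card_pos_iff).mp hp.pos
  have hcard : Nat.card N = Nat.card Ω := Nat.card_eq_of_bijective _ (hreg x)
  haveI := Fact.mk hp
  haveI : IsCyclic N := isCyclic_of_prime_card hcard
  obtain ⟨γ, hγ⟩ := IsCyclic.exists_zpow_surjective (G := N)
  have habel : ∀ g h : MulAction.stabilizer S x, g * h = h * g := fun g h => by
    refine conjHom_injective N x (hreg x).2 ?_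
    rw [map_mul, map_mul]
    refine aut_ext fun a => Additive.toMul.injective (Subtype.ext ?_)
    obtain ⟨j, hj⟩ := hγ (Additive.toMul a)
    have ha : a = j • Additive.ofMul γ := by
      rw [← ofMul_zpow, show γ ^ j = Additive.toMul a from hj, ofMul_toMul]
    obtain ⟨i, hi⟩ := hγ (Additive.toMul (conjHom N x g • Additive.ofMul γ))
    obtain ⟨l, hl⟩ := hγ (Additive.toMul (conjHom N x h • Additive.ofMul γ))
    have hi' : conjHom N x g • Additive.ofMul γ = i • Additive.ofMul γ := by
      rw [← ofMul_zpow, show γ ^ i = _ from hi, ofMul_toMul]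
    have hl' : conjHom N x h • Additive.ofMul γ = l • Additive.ofMul γ := by
      rw [← ofMul_zpow, show γ ^ l = _ from hl, ofMul_toMul]
    congr 2
    rw [ha, mul_smul, mul_smul]
    have hz : ∀ (f : Aut (Additive N)) (n : ℤ) (y : Additive N), f • (n • y) = n • (f • y) :=
      fun f n y => map_zsmul (f : AddMonoid.End (Additive N)) n y
    rw [hz _ j, hz _ j, hz _ j, hz _ j, hl', hi', hz, hz, hi', hl', smul_smul, smul_smul, smul_smul,
      smul_smul, mul_assoc, mul_assoc, mul_comm l i]
  -- the quotient by the regular subgroup is the stabiliser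
  let q := QuotientGroup.mk' N
  have hsurj : Function.Surjective (q.comp (MulAction.stabilizer S x).subtype) := by
    intro z
    obtain ⟨s, rfl⟩ := QuotientGroup.mk'_surjective N z
    obtain ⟨a, ha⟩ := (hreg x).2 ((s : Perm Ω) x)
    refine ⟨⟨(a : S)⁻¹ * s, ?_⟩, ?_⟩
    · show ((((a : S)⁻¹ * s : S)) : Perm Ω) x = x
      simp only [Subgroup.coe_mul, Subgroup.coe_inv, Perm.mul_apply]
      rw [← ha]
      simp
    · show q ((a : S)⁻¹ * s) = q s
      rw [map_mul, map_inv, show q a = 1 from (QuotientGroup.eq_one_iff _).mpr a.2, inv_one, one_mul]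
  have hq : DL (S ⧸ N) 1 := (DL.of_comm habel).of_surjective _ hsurj
  have hk : DL q.ker 1 := DL.of_comm fun a b => Subtype.ext (hcomm _
    ((QuotientGroup.eq_one_iff _).mp a.2) _ ((QuotientGroup.eq_one_iff _).mp b.2))
  exact DL.of_ker q hq hk

/-- Blocks in degree four or six. -/
lemma dl_imprimitive (S : Subgroup (Perm Ω)) [MulAction.IsPretransitive S Ω] {B : Set Ω}
    (hB : MulAction.IsBlock S B) (hns : ¬ B.Subsingleton) (huniv : B ≠ Set.univ)
    (h7 : Nat.card Ω ≤ 7) : DL S 3 := by
  have : Fintype Ω := Fintype.ofFinite Ω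
  obtain ⟨b, hb, b', hb', hbb⟩ := Set.not_subsingleton_iff.mp hns
  have hne : B.Nonempty := ⟨b, hb⟩
  let Q := MulAction.orbit S B
  let φ : S →* Perm Q := MulAction.toPermHom S Q
  have hprod : Nat.card B * Nat.card Q = Nat.card Ω := by
    rw [Nat.card_coe_set_eq, Nat.card_coe_set_eq]
    exact MulAction.IsBlock.ncard_block_mul_ncard_orbit_eq hB hne
  have hB2 : 2 ≤ Nat.card B := by
    have : Nontrivial B := ⟨⟨⟨b, hb⟩, ⟨b', hb'⟩, fun e => hbb (congrArg Subtype.val e)⟩⟩
    exact Finite.one_lt_card
  have hQ2 : 2 ≤ Nat.card Q := by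
    by_contra h
    have hlt : Nat.card B < Nat.card Ω := by
      obtain ⟨c, hc⟩ := (Set.ne_univ_iff_exists_notMem _).mp huniv
      simp only [Nat.card_eq_fintype_card]
      exact Fintype.card_subtype_lt (x := c) hc
    interval_cases hq : Nat.card Q <;> omega
  have hQ3 : Nat.card Q ≤ 3 := by nlinarith
  have hB3 : Nat.card B ≤ 3 := by nlinarith
  -- the kernel acts on every block
  let W : Q → Subgroup (Perm Ω) := fun j => S ⊓ MulAction.stabilizer (Perm Ω) (j : Set Ω)
  let ψ : ∀ j : Q, φ.ker →* Perm (j : Set Ω) := fun j =>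
    { toFun := fun g => Equiv.Perm.subtypePerm ((g : S) : Perm Ω) fun y => by
        have h := congrArg (fun σ => ((σ j : Q) : Set Ω)) g.2
        change (g : S) • (j : Set Ω) = (j : Set Ω) at h
        conv_lhs => rw [← h]
        exact Set.smul_mem_smul_set_iff (a := (g : S))
      map_one' := Equiv.ext fun _ => rfl
      map_mul' := fun _ _ => Equiv.ext fun _ => rfl }
  have hψ : Function.Injective (MonoidHom.pi fun j => (ψ j).rangeRestrict) := by
    refine (injective_iff_map_eq_one _).mpr fun g hg => Subtype.ext (Subtype.ext (Perm.ext fun z => ?_))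
    obtain ⟨s, hs⟩ := MulAction.exists_smul_eq S b z
    have h1 := congrArg Subtype.val (congrFun hg ⟨s • B, ⟨s, rfl⟩⟩)
    exact congrArg Subtype.val (Perm.ext_iff.mp h1 ⟨z, hs ▸ Set.smul_mem_smul_set hb⟩)
  have hcardj : ∀ j : Q, Nat.card (j : Set Ω) = Nat.card B := by
    rintro ⟨_, s, rfl⟩
    exact Nat.card_congr ((Equiv.Set.image (fun z => s • z) B (MulAction.injective s)).symm)
  rcases (show Nat.card Q = 2 ∨ Nat.card Q = 3 by omega) with e | e
  · have hk : DL φ.ker 2 := (DL.pi fun j => dl_perm_small_card ((hcardj j).le.trans hB3) _).of_injective _ hψ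
    exact DL.of_ker φ.rangeRestrict (dl_perm_two e φ.range) (by rwa [MonoidHom.ker_rangeRestrict])
  · have hB' : Nat.card B = 2 := by
      rw [e] at hprod; omega
    have hk : DL φ.ker 1 := (DL.pi fun j => dl_perm_two ((hcardj j).trans hB') _).of_injective _ hψ
    exact DL.of_ker φ.rangeRestrict (dl_perm_three e φ.range) (by rwa [MonoidHom.ker_rangeRestrict])

/-- At most seven points. -/
theorem dl_seven : ∀ (n : ℕ) (Ω : Type u) [Finite Ω], Nat.card Ω = n → n ≤ 7 →
    ∀ S : Subgroup (Perm Ω), Group.IsSolvable S → DL S 3 := by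
  intro n
  induction n using Nat.strong_induction_on with
  | _ n ih =>
    intro Ω _ hn hn7 S hsol
    have : Fintype Ω := Fintype.ofFinite Ω
    by_cases h3 : n ≤ 3
    · exact (dl_perm_small_card (hn ▸ h3) S).mono (by norm_num)
    by_cases htr : MulAction.IsPretransitive S Ω
    · by_cases hprim : ∀ B : Set Ω, MulAction.IsBlock S B → B.Subsingleton ∨ B = Set.univ
      · rcases subsingleton_or_nontrivial S with hS | hS
        · exact DL.of_subsingleton 3
        obtain ⟨N, hN, hcomm, ⟨r, hr, hexp⟩, hreg⟩ := exists_regular S hsol hprim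
        obtain ⟨x⟩ : Nonempty Ω := Finite.card_pos_iff.mp (by omega)
        have hcard : Nat.card N = n := (Nat.card_eq_of_bijective _ (hreg x)).trans hn
        by_cases hp : n.Prime
        · exact (dl_prime S hsol (hn ▸ hp)).mono (by norm_num)
        have h4 : n = 4 := by
          by_contra h4
          have h6 : n = 6 := by
            rcases (show n = 5 ∨ n = 6 ∨ n = 7 by omega) with e | e | e
            · exact absurd (e ▸ Nat.prime_five) hp
            · exact e
            · exact absurd (e ▸ (by norm_num : Nat.Prime 7)) hp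
          haveI := Fact.mk Nat.prime_two
          haveI := Fact.mk Nat.prime_three
          obtain ⟨a, ha⟩ := exists_prime_orderOf_dvd_card' (G := N) 2 (by rw [hcard, h6]; norm_num)
          obtain ⟨b, hb⟩ := exists_prime_orderOf_dvd_card' (G := N) 3 (by rw [hcard, h6]; norm_num)
          have h2 : orderOf a ∣ r := orderOf_dvd_of_pow_eq_one (Subtype.ext (hexp _ a.2))
          have h3' : orderOf b ∣ r := orderOf_dvd_of_pow_eq_one (Subtype.ext (hexp _ b.2))
          rw [ha, Nat.prime_dvd_prime_iff_eq Nat.prime_two hr] at h2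
          rw [hb, Nat.prime_dvd_prime_iff_eq Nat.prime_three hr] at h3'
          omega
        -- the stabiliser moves three points
        let ρ : MulAction.stabilizer S x →* Perm {y // y ≠ x} :=
          { toFun := fun g => Equiv.Perm.subtypePerm ((g : S) : Perm Ω) fun y => by
              have hgx : ((g : S) : Perm Ω) x = x := g.2
              refine not_congr ⟨fun h => ((g : S) : Perm Ω).injective (h.trans hgx.symm), fun h => ?_⟩
              rw [h, hgx]
            map_one' := Equiv.ext fun _ => rfl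
            map_mul' := fun _ _ => Equiv.ext fun _ => rfl }
        have hρ : Function.Injective ρ := by
          refine (injective_iff_map_eq_one _).mpr fun g hg =>
            Subtype.ext (Subtype.ext (Perm.ext fun z => ?_))
          by_cases hz : z = x
          · subst hz; exact g.2
          · exact congrArg Subtype.val (Perm.ext_iff.mp hg ⟨z, hz⟩)
        have hc3 : Nat.card {y // y ≠ x} ≤ 3 := by
          rw [Nat.card_eq_fintype_card, Fintype.card_subtype_compl, Fintype.card_subtype_eq,
            ← Nat.card_eq_fintype_card, hn]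
          omega
        have hst : DL (MulAction.stabilizer S x) 2 :=
          (dl_perm_small_card hc3 ρ.range).of_injective ρ.rangeRestrict
            (fun g h e => hρ (congrArg Subtype.val e))
        let q := QuotientGroup.mk' N
        have hsurj : Function.Surjective (q.comp (MulAction.stabilizer S x).subtype) := by
          intro z
          obtain ⟨s, rfl⟩ := QuotientGroup.mk'_surjective N z
          obtain ⟨a, ha⟩ := (hreg x).2 ((s : Perm Ω) x)
          refine ⟨⟨(a : S)⁻¹ * s, ?_⟩, ?_⟩
          · show ((((a : S)⁻¹ * s : S)) : Perm Ω) x = x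
            simp only [Subgroup.coe_mul, Subgroup.coe_inv, Perm.mul_apply]
            rw [← ha]
            simp
          · show q ((a : S)⁻¹ * s) = q s
            rw [map_mul, map_inv, show q a = 1 from (QuotientGroup.eq_one_iff _).mpr a.2, inv_one,
              one_mul]
        exact DL.of_ker q (hst.of_surjective _ hsurj) (DL.of_comm fun a b => Subtype.ext (hcomm _
          ((QuotientGroup.eq_one_iff _).mp a.2) _ ((QuotientGroup.eq_one_iff _).mp b.2)))
      · push Not at hprim
        obtain ⟨B, hB, hns, huniv⟩ := hprim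
        exact dl_imprimitive S hB (Set.not_subsingleton_iff.mpr hns) huniv (hn ▸ hn7)
    · obtain ⟨x, y, hxy⟩ : ∃ x y : Ω, ∀ g : S, g • x ≠ y := by
        by_contra hcon
        push Not at hcon
        exact htr ⟨hcon⟩
      let P : Ω → Prop := fun z => z ∈ MulAction.orbit S x
      have hP : ∀ g ∈ S, ∀ z, P (g z) ↔ P z := fun g hg z => by
        constructor <;> rintro ⟨a, ha⟩
        · exact ⟨(⟨g, hg⟩ : S)⁻¹ * a, show ((⟨g, hg⟩ : S)⁻¹ * a) • x = z by
            rw [mul_smul, show a • x = (⟨g, hg⟩ : S) • z from ha, inv_smul_smul]⟩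
        · exact ⟨(⟨g, hg⟩ : S) * a, show ((⟨g, hg⟩ : S) * a) • x = g z by
            rw [mul_smul, show a • x = z from ha]; rfl⟩
      have hP' : ∀ g ∈ S, ∀ z, ¬ P (g z) ↔ ¬ P z := fun g hg z => not_congr (hP g hg z)
      have hy : ¬ P y := fun ⟨g, hg⟩ => hxy g hg
      have h1 : DL (OddBase.resPerm S P hP).range 3 := by
        refine ih _ ?_ _ rfl ?_ _ (solvable_range _ hsol)
        · rw [← hn]; simp only [Nat.card_eq_fintype_card]
          exact Fintype.card_subtype_lt (x := y) hy
        · rw [← hn] at hn7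
          exact (Nat.card_le_card_of_injective _ Subtype.val_injective).trans hn7
      have h2 : DL (OddBase.resPerm S (fun z => ¬ P z) hP').range 3 := by
        refine ih _ ?_ _ rfl ?_ _ (solvable_range _ hsol)
        · rw [← hn]; simp only [Nat.card_eq_fintype_card]
          exact Fintype.card_subtype_lt (x := x) (not_not.mpr (MulAction.mem_orbit_self x))
        · rw [← hn] at hn7
          exact (Nat.card_le_card_of_injective _ Subtype.val_injective).trans hn7
      refine (h1.prod h2).of_injective (MonoidHom.prod (OddBase.resPerm S P hP).rangeRestrict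
        (OddBase.resPerm S (fun z => ¬ P z) hP').rangeRestrict) ?_
      refine (injective_iff_map_eq_one _).mpr fun g hg => Subtype.ext (Perm.ext fun z => ?_)
      simp only [Prod.ext_iff] at hg
      by_cases hz : P z
      · exact congrArg Subtype.val (Perm.ext_iff.mp (congrArg Subtype.val hg.1) ⟨z, hz⟩)
      · exact congrArg Subtype.val (Perm.ext_iff.mp (congrArg Subtype.val hg.2) ⟨z, hz⟩)

/-- Four points with trivial pointwise stabiliser. -/
lemma exists_base (S : Subgroup (Perm Ω)) (hsol : Group.IsSolvable S) [Nonempty Ω]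
    [MulAction.IsPretransitive S Ω]
    (hprim : ∀ B : Set Ω, MulAction.IsBlock S B → B.Subsingleton ∨ B = Set.univ) :
    ∃ s : Finset Ω, s.card ≤ 4 ∧ ∀ g ∈ S, (∀ z ∈ s, g z = z) → g = 1 := by
  obtain ⟨x⟩ := (inferInstance : Nonempty Ω)
  rcases subsingleton_or_nontrivial S with hS | hS
  · exact ⟨∅, by simp, fun g hg _ => congrArg Subtype.val (Subsingleton.elim (⟨g, hg⟩ : S) 1)⟩
  obtain ⟨N, hN, hcomm, -, hreg⟩ := exists_regular S hsol hprim
  haveI : IsMulCommutative N := ⟨⟨fun a b => Subtype.ext (hcomm a a.2 b b.2)⟩⟩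
  set H := MulAction.stabilizer S x
  haveI := hsol
  have hHsol : Group.IsSolvable H :=
    Group.isSolvable_of_isSolvable_injective (Subgroup.subtype_injective H)
  let R := (conjHom N x).range
  have hirr : Irr R := by
    intro U hU
    -- the elements of `U` as a subgroup normalised by everything
    let M : Subgroup S := (AddSubgroup.toSubgroup' U).map N.subtype
    have hM : M.Normal := by
      refine ⟨?_⟩
      rintro _ ⟨a, ha, rfl⟩ g
      obtain ⟨c, hc⟩ := (hreg x).2 ((g : Perm Ω) x)
      have hh : ((c : S)⁻¹ * g) ∈ H := by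
        show ((((c : S)⁻¹ * g : S)) : Perm Ω) x = x
        simp only [Subgroup.coe_mul, Subgroup.coe_inv, Perm.mul_apply]
        rw [← hc]; simp
      refine ⟨Additive.toMul (conjHom N x ⟨_, hh⟩ • Additive.ofMul a), hU _ ⟨_, rfl⟩ _ ha, ?_⟩
      show ((Additive.toMul (conjHom N x ⟨_, hh⟩ • Additive.ofMul a) : N) : S) = g * (a : S) * g⁻¹
      have hconj := conjHom_smul N x ⟨_, hh⟩ (Additive.ofMul a)
      simp only [toMul_ofMul] at hconj
      rw [hconj]
      calc (c : S)⁻¹ * g * (a : S) * ((c : S)⁻¹ * g)⁻¹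
          = (c : S)⁻¹ * (g * (a : S) * g⁻¹ * (c : S)) := by group
        _ = (c : S)⁻¹ * ((c : S) * (g * (a : S) * g⁻¹)) := by
          rw [hcomm _ (hN.conj_mem _ a.2 g) _ c.2]
        _ = _ := inv_mul_cancel_left _ _
    rcases hprim _ (MulAction.IsBlock.orbit_of_normal (N := M) x) with hsub | huniv
    · left
      refine (AddSubgroup.eq_bot_iff_forall _).mpr fun a ha => ?_
      have hm : ((Additive.toMul a : N) : S) ∈ M := ⟨Additive.toMul a, ha, rfl⟩
      have h1 := hsub (show ((⟨_, hm⟩ : M) • x) ∈ MulAction.orbit M x from ⟨_, rfl⟩)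
        (MulAction.mem_orbit_self x)
      refine Additive.toMul.injective ((hreg x).1 ?_)
      exact h1
    · right
      refine eq_top_iff.mpr fun a _ => ?_
      obtain ⟨⟨m, b, hb, hbm⟩, hmx⟩ : (((Additive.toMul a : N) : S) : Perm Ω) x ∈ MulAction.orbit M x := by
        rw [huniv]; trivial
      have : b = Additive.toMul a := (hreg x).1 (by subst hbm; exact hmx)
      rw [← ofMul_toMul a, ← this]
      exact hb
  obtain ⟨⟨a, b, c⟩, ht⟩ := SolvBase.triGood _ (Additive N) rfl R (solvable_range _ hHsol) (CR.of_irr hirr)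
  let pt : Additive N → Ω := fun a => (((Additive.toMul a : N) : S) : Perm Ω) x
  refine ⟨{x, pt a, pt b, pt c}, Finset.card_le_four, fun g hg hfix => ?_⟩
  simp only [Finset.mem_insert, Finset.mem_singleton, forall_eq_or_imp, forall_eq] at hfix
  obtain ⟨hgx, hga, hgb, hgc⟩ := hfix
  have key : ∀ d : Additive N, g (pt d) = pt d → conjHom N x ⟨⟨g, hg⟩, hgx⟩ • d = d := by
    intro d hd
    refine Additive.toMul.injective ((hreg x).1 ?_)
    show (((Additive.toMul (conjHom N x ⟨⟨g, hg⟩, hgx⟩ • d) : N) : S) : Perm Ω) x = pt d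
    rw [conjHom_smul]
    simp only [Subgroup.coe_mul, Subgroup.coe_inv, Perm.mul_apply]
    rw [show g⁻¹ x = x from Perm.inv_eq_iff_eq.mpr hgx.symm]
    exact hd
  have h1 := ht _ ⟨⟨⟨g, hg⟩, hgx⟩, rfl⟩ (key a hga) (key b hgb) (key c hgc)
  have h2 := conjHom_injective N x (hreg x).2 (h1.trans (map_one _).symm)
  exact congrArg (fun z : H => ((z : S) : Perm Ω)) h2

/-- A setwise stabiliser of a superset of a base. -/
lemma dl_superset (S : Subgroup (Perm Ω)) (hsol : Group.IsSolvable S) {s : Finset Ω}
    (hbase : ∀ g ∈ S, (∀ z ∈ s, g z = z) → g = 1) {t : Finset Ω} (hst : s ⊆ t) (ht : t.card ≤ 7) :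
    DL (setStab S (t : Set Ω)) 3 := by
  let ρ : setStab S (t : Set Ω) →* Perm {y // y ∈ t} :=
    { toFun := fun g => Equiv.Perm.subtypePerm (g : Perm Ω) fun y => by
        have h : (g : Perm Ω) • (t : Set Ω) = t := g.2.2
        have h1 := Set.smul_mem_smul_set_iff (a := (g : Perm Ω)) (s := (t : Set Ω)) (x := y)
        rw [h] at h1
        exact h1
      map_one' := Equiv.ext fun _ => rfl
      map_mul' := fun _ _ => Equiv.ext fun _ => rfl }
  have hρ : Function.Injective ρ := by
    refine (injective_iff_map_eq_one _).mpr fun g hg => Subtype.ext ?_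
    exact hbase _ g.2.1 fun z hz => congrArg Subtype.val (Perm.ext_iff.mp hg ⟨z, hst hz⟩)
  haveI := hsol
  have hs' : Group.IsSolvable (setStab S (t : Set Ω)) :=
    Group.isSolvable_of_isSolvable_injective (Subgroup.inclusion_injective inf_le_left)
  refine (dl_seven _ {y // y ∈ t} rfl ?_ ρ.range (solvable_range _ hs')).of_injective ρ.rangeRestrict
    (fun g h e => hρ (congrArg Subtype.val e))
  rw [Nat.card_eq_finsetCard]; exact ht

/-- Five sets of different sizes. -/
lemma of_cards (S : Subgroup (Perm Ω)) (Δ : Fin 5 → Set Ω) (hΔ : ∀ i, DL (setStab S (Δ i)) 3)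
    (hc : Function.Injective fun i => (Δ i).ncard) :
    ∃ Δ : Fin 5 → Set Ω, (∀ i, DL (setStab S (Δ i)) 3) ∧
      ∀ i j, i ≠ j → ∀ g ∈ S, g • Δ i ≠ Δ j := by
  refine ⟨Δ, hΔ, fun i j hij g _ e => hij (hc ?_)⟩
  show (Δ i).ncard = (Δ j).ncard
  rw [← e]
  exact (Set.ncard_image_of_injective _ g.injective).symm

/-- The statement. -/
theorem subsetBound : SubsetBound.{u} := by
  intro Ω _ S hsol htr hprim h4
  have : Fintype Ω := Fintype.ofFinite Ω
  haveI := htr
  rw [Nat.card_eq_fintype_card] at h4
  by_cases hsmall : Fintype.card Ω ≤ 7 ∨ (Fintype.card Ω).Prime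
  · have hS : DL S 3 := by
      rcases hsmall with h | h
      · exact dl_seven _ Ω Nat.card_eq_fintype_card h S hsol
      · exact (dl_prime S hsol (by rwa [Nat.card_eq_fintype_card])).mono (by norm_num)
    have hex : ∀ i : Fin 5, ∃ t : Finset Ω, t.card = i.val := fun i => by
      obtain ⟨t, -, ht⟩ := Finset.exists_subset_card_eq
        (show i.val ≤ (Finset.univ : Finset Ω).card by rw [Finset.card_univ]; omega)
      exact ⟨t, ht⟩
    choose t ht using hex
    refine of_cards S (fun i => (t i : Set Ω)) (fun i => hS.of_le inf_le_left) fun i j h => ?_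
    simp only [Set.ncard_coe_finset, ht] at h
    exact Fin.ext h
  push Not at hsmall
  obtain ⟨h8, hnp⟩ := hsmall
  haveI : Nonempty Ω := Fintype.card_pos_iff.mp (by omega)
  obtain ⟨s, hs4, hbase⟩ := exists_base S hsol hprim
  have hex : ∀ i : Fin 4, ∃ t : Finset Ω, s ⊆ t ∧ t.card = 4 + i.val := fun i => by
    obtain ⟨t, h1, -, h3⟩ := Finset.exists_subsuperset_card_eq (Finset.subset_univ s)
      (show s.card ≤ 4 + i.val by omega) (by rw [Finset.card_univ]; omega)
    exact ⟨t, h1, h3⟩
  choose t hst ht using hex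
  obtain ⟨i₀, hi₀⟩ : ∃ i₀ : Fin 4, ∀ j : Fin 4, Fintype.card Ω - (4 + i₀.val) ≠ 4 + j.val := by
    by_cases h : Fintype.card Ω ≤ 10
    · exact ⟨3, fun j => by show Fintype.card Ω - (4 + 3) ≠ _; omega⟩
    · have : Fintype.card Ω ≠ 11 := fun e => hnp (by rw [e]; norm_num)
      exact ⟨0, fun j => by show Fintype.card Ω - (4 + 0) ≠ _; omega⟩
  have hdl : ∀ i, DL (setStab S (t i : Set Ω)) 3 := fun i =>
    dl_superset S hsol hbase (hst i) (by rw [ht]; omega)
  let Δ : Fin 5 → Set Ω := Fin.snoc (fun i => (t i : Set Ω)) ((t i₀ : Set Ω)ᶜ)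
  have hc : ∀ i : Fin 4, (Δ i.castSucc).ncard = 4 + i.val := fun i => by
    simp only [Δ, Fin.snoc_castSucc, Set.ncard_coe_finset, ht]
  have hcl : (Δ (Fin.last 4)).ncard = Fintype.card Ω - (4 + i₀.val) := by
    simp only [Δ, Fin.snoc_last]
    rw [Set.ncard_compl, Set.ncard_coe_finset, ht, Nat.card_eq_fintype_card]
  have hlast : Δ (Fin.last 4) = (t i₀ : Set Ω)ᶜ := Fin.snoc_last _ _
  have hcast : ∀ i : Fin 4, Δ i.castSucc = (t i : Set Ω) := fun i => Fin.snoc_castSucc _ _ _
  refine of_cards S Δ (fun i => ?_) (fun i j h => ?_)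
  · refine Fin.lastCases ?_ (fun i => ?_) i
    · rw [hlast]
      refine (hdl i₀).of_le ?_
      rintro g ⟨hg, hgt⟩
      refine ⟨hg, ?_⟩
      have h : g • (t i₀ : Set Ω)ᶜ = (t i₀ : Set Ω)ᶜ := hgt
      rw [Set.smul_set_compl] at h
      exact compl_injective h
    · rw [hcast]
      exact hdl i
  · revert h
    refine Fin.lastCases ?_ (fun i' => ?_) i <;> refine Fin.lastCases ?_ (fun j' => ?_) j <;>
      intro h <;> simp only [hc, hcl] at h
    · rfl
    · exact absurd h (hi₀ _)
    · exact absurd h.symm (hi₀ _)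
    · exact congrArg Fin.castSucc (Fin.ext (by omega))

end CfsgLib.StabLength.Subsets
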