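import Cfsg.Agent.StabLength.Defs

/-!
Statements of the separable pieces for S4070 (proved in the sibling files).
-/

set_option autoImplicit false

universe u

namespace CfsgLib.StabLength

open OddBase
open scoped Pointwise

/-- Derived lengths of completely reducible soluble groups on small elementary abelian groups. -/
def TableBound : Prop :=
  ∀ (W : Type u) [AddCommGroup W] [Finite W] (r n : ℕ), r.Prime → (∀ w : W, r • w = 0) →
    Nat.card W = r ^ n → ∀ A : Subgroup (Aut W), Group.IsSolvable A → CR A →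
      (r = 2 → n ≤ 4 → DL A 3) ∧ (r = 2 → n ≤ 8 → DL A 6) ∧ (r = 2 → n ≤ 14 → DL A 7) ∧
      (r = 3 → n ≤ 4 → DL A 5) ∧ (r = 3 → n ≤ 8 → DL A 8) ∧
      (n ≤ 2 → DL A 4) ∧ (n ≤ 4 → DL A 6)

/-- On sixty-four points a subgroup of derived length six acts irreducibly. -/
def SixtyFour : Prop :=
  ∀ (W : Type u) [AddCommGroup W] [Finite W], Nat.card W = 64 → (∀ w : W, 2 • w = 0) →
    ∀ A : Subgroup (Aut W), Group.IsSolvable A → CR A → ∀ T : Subgroup (Aut W), T ≤ A →
      ¬ DL T 5 → Irr T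

/-- On 256 points derived length six forces a small group. -/
def TwoEight : Prop :=
  ∀ (W : Type u) [AddCommGroup W] [Finite W], Nat.card W = 256 → (∀ w : W, 2 • w = 0) →
    ∀ A : Subgroup (Aut W), Group.IsSolvable A → CR A → ¬ DL A 5 → Nat.card A ≤ 15552

/-- Five subsets with small setwise stabilisers in a soluble primitive group. -/
def SubsetBound : Prop :=
  ∀ (Ω : Type u) [Finite Ω] (S : Subgroup (Equiv.Perm Ω)), Group.IsSolvable S →
    MulAction.IsPretransitive S Ω →
    (∀ B : Set Ω, MulAction.IsBlock S B → B.Subsingleton ∨ B = Set.univ) → 4 ≤ Nat.card Ω →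
      ∃ Δ : Fin 5 → Set Ω, (∀ i, DL (setStab S (Δ i)) 3) ∧
        ∀ i j, i ≠ j → ∀ g ∈ S, g • Δ i ≠ Δ j

/-- The odd half: an abelian stabiliser. -/
def OddHalf : Prop :=
  ∀ (V : Type u) [AddCommGroup V] [Finite V] (A : Subgroup (Aut V)), Group.IsSolvable A →
    Odd (Nat.card A) → CR A → ∀ p : ℕ, p.Prime → p ≠ 2 → (∀ v : V, p • v = 0) →
      ∃ v : V, ∀ a ∈ stabV A v, ∀ b ∈ stabV A v, a * b = b * a

end CfsgLib.StabLength
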