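import Cfsg.Agent.StabLength.Wreath
import Cfsg.Agent.StabLength.Iface
import Cfsg.Agent.SolvBase.Colour
import Mathlib.GroupTheory.Perm.Sign

/-!
Groups with blocks inherit good vectors from the group on a block.
-/

set_option autoImplicit false
set_option linter.unusedSectionVars false
set_option linter.style.haveILetI false

universe u

namespace CfsgLib.StabLength

open OddBase
open scoped Classical Pointwise

lemma comm_small_fix : ∀ g h : Equiv.Perm (Fin 3), g 0 = 0 → h 0 = 0 → g * h = h * g := by decide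

lemma comm_small_even : ∀ g h : Equiv.Perm (Fin 3), Equiv.Perm.sign g = 1 → Equiv.Perm.sign h = 1 →
    g * h = h * g := by decide

lemma comm_two : ∀ g h : Equiv.Perm (Fin 2), g * h = h * g := by decide

lemma dl_perm_three {X : Type*} [Finite X] (hX : Nat.card X = 3) (S : Subgroup (Equiv.Perm X)) :
    DL S 2 := by
  let e := (Finite.equivFin X).trans (finCongr hX)
  let ψ : S →* Equiv.Perm (Fin 3) := (Equiv.permCongrHom e).toMonoidHom.comp S.subtype
  have hψ : Function.Injective ψ := (Equiv.permCongrHom e).injective.comp Subtype.val_injective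
  refine DL.of_ker (a := 1) (b := 1) (Equiv.Perm.sign.comp ψ) (DL.of_comm mul_comm) (DL.of_comm ?_)
  intro g h
  exact Subtype.ext (hψ (by simp only [Subgroup.coe_mul, map_mul]; exact comm_small_even _ _ g.2 h.2))

lemma dl_perm_two {X : Type*} [Finite X] (hX : Nat.card X = 2) (S : Subgroup (Equiv.Perm X)) :
    DL S 1 := by
  let e := (Finite.equivFin X).trans (finCongr hX)
  refine DL.of_comm fun g h => Subtype.ext ((Equiv.permCongrHom e).injective ?_)
  simp only [Subgroup.coe_mul, map_mul]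
  exact comm_two _ _

lemma dl_perm_fix {X : Type*} [Finite X] (hX : Nat.card X = 3) (x : X) (S : Subgroup (Equiv.Perm X))
    (hS : ∀ g ∈ S, g x = x) : DL S 1 := by
  let e0 := (Finite.equivFin X).trans (finCongr hX)
  let e := e0.trans (Equiv.swap (e0 x) 0)
  have hx : e x = 0 := Equiv.swap_apply_left _ _
  refine DL.of_comm fun g h => Subtype.ext ((Equiv.permCongrHom e).injective ?_)
  simp only [Subgroup.coe_mul, map_mul]
  have key : ∀ k ∈ S, Equiv.permCongrHom e k 0 = 0 := fun k hk => by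
    show e (k (e.symm 0)) = 0
    rw [show e.symm 0 = x from e.symm_apply_eq.mpr hx.symm, hS k hk, hx]
  exact comm_small_fix _ _ (key g g.2) (key h h.2)

variable {V : Type u} [AddCommGroup V] [Finite V] {A : Subgroup (Aut V)} (Bk : Blocks A)

lemma card_O_two : 2 ≤ Nat.card Bk.O := by
  rw [Nat.card_eq_fintype_card, Fintype.card_coe]; exact Bk.two

lemma stabPerm_le (v : V) : (stabPerm Bk v).range ≤ Bk.perm.range := by
  rintro _ ⟨g, rfl⟩
  exact ⟨_, rfl⟩

lemma zero_label {R : Subgroup (Aut Bk.space)} {w : Bk.space} (hw : w ≠ 0) :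
    ∀ r ∈ R, r • (0 : Bk.space) ≠ w := fun r _ h => hw (by rw [← h, smul_zero])

lemma bool_labels {R : Subgroup (Aut Bk.space)} {a b : Bk.space} (h : ∀ r ∈ R, r • a ≠ b) :
    ∀ c c' : Bool, ∀ r ∈ R, r • (if c then b else a) = (if c' then b else a) → c = c' := by
  intro c c' r hr e
  cases c <;> cases c' <;> simp only [if_true, if_false, Bool.false_eq_true] at e ⊢
  · exact (h r hr e).elim
  · exact (h r⁻¹ (R.inv_mem hr) (by rw [inv_smul_eq_iff, e])).elim

lemma vec_ne_zero {f : Bk.O → Bk.space} (i : Bk.O) (h : f i ≠ 0) : vec Bk f ≠ 0 := fun e =>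
  h (congrFun (vec_injective Bk (e.trans (vec_zero Bk).symm)) i)

/-- Five orbits on the block give five orbits. -/
theorem five_of_five (hsol : Group.IsSolvable A) (hR : Five (blockGroup Bk)) : Five A := by
  obtain ⟨P₀, hP9, hPsep⟩ := hR
  let P : ZMod 5 → Bk.space := P₀
  let sh : Fin 5 → ZMod 5 := fun J => J
  haveI : Nonempty Bk.O := ⟨Bk.base⟩
  haveI := hsol
  obtain ⟨δ, hδ⟩ := SolvBase.col5 _ Bk.O rfl Bk.perm.range (solvable_range _ hsol)
  have hlab : ∀ c c' : ZMod 5, ∀ r ∈ blockGroup Bk, r • P c = P c' → c = c' := fun c c' r hr e => by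
    by_contra hne
    exact hPsep c c' hne r hr e
  refine ⟨fun J => vec Bk fun i => P (δ i + sh J), fun J => ?_, fun J J' hne a ha e => ?_⟩
  · have hk : DL (stabPerm Bk (vec Bk fun i => P (δ i + sh J))).range 0 := by
      refine (Subgroup.eq_bot_iff_forall _).mpr ?_
      rintro ⟨_, g, rfl⟩ -
      refine Subtype.ext (hδ _ ⟨_, rfl⟩ 0 fun i => ?_).1
      have h := label_move Bk P hlab g.2.1 g.2.2 i
      rw [add_zero]
      exact (add_right_cancel h).symm
    exact dl_stab Bk _ (fun _ => 9) (Nat.zero_le _) (fun i => hP9 _) hk (fun _ => Or.inl le_rfl)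
  · refine hne ?_
    have h := label_move Bk P hlab ha e
    obtain ⟨-, h0⟩ := hδ _ ⟨⟨a, ha⟩, rfl⟩ (sh J - sh J') fun i => by
      rw [eq_sub_of_add_eq (h i).symm]; ring
    exact sub_eq_zero.mp h0

/-- Two orbits on a block and at least four blocks permuted primitively give five orbits. -/
theorem five_of_pair (hsub : SubsetBound.{u}) (hsol : Group.IsSolvable A)
    (hprim : ∀ B : Set Bk.O, MulAction.IsBlock Bk.perm.range B → B.Subsingleton ∨ B = Set.univ)
    (h4 : 4 ≤ Nat.card Bk.O) {w₁ w₂ : Bk.space} (hsep : ∀ r ∈ blockGroup Bk, r • w₁ ≠ w₂)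
    (h1 : DL (stabV (blockGroup Bk) w₁) 6) (h2 : DL (stabV (blockGroup Bk) w₂) 6) : Five A := by
  have htr : MulAction.IsPretransitive Bk.perm.range Bk.O := ⟨fun i j => by
    obtain ⟨a, ha, hae⟩ := Bk.trans i i.2 j j.2
    exact ⟨⟨_, ⟨a, ha⟩, rfl⟩, Subtype.ext hae⟩⟩
  obtain ⟨Δ, hΔ, hne⟩ := hsub Bk.O Bk.perm.range (solvable_range _ hsol) htr hprim h4
  let P : Bool → Bk.space := fun c => if c then w₂ else w₁
  have hlab := bool_labels Bk hsep
  have hmap : ∀ (k l : Fin 5) (a : Aut V) (ha : a ∈ A),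
      a • vec Bk (fun i => P (decide (i ∈ Δ k))) = vec Bk (fun i => P (decide (i ∈ Δ l))) →
      Bk.perm ⟨a, ha⟩ • Δ k = Δ l := by
    intro k l a ha e
    have h := label_move Bk P hlab ha e
    ext j
    obtain ⟨i, rfl⟩ := (Bk.perm ⟨a, ha⟩).surjective j
    rw [show Bk.perm ⟨a, ha⟩ i = Bk.perm ⟨a, ha⟩ • i from rfl, Set.smul_mem_smul_set_iff]
    exact decide_eq_decide.mp (h i)
  refine ⟨fun k => vec Bk fun i => P (decide (i ∈ Δ k)), fun k => ?_, fun k l hkl a ha e =>
    hne k l hkl _ ⟨_, rfl⟩ (hmap k l a ha e)⟩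
  refine dl_stab Bk _ (fun _ => 6) (k := 3) (by norm_num) (fun i => ?_) ?_ (fun _ => Or.inl le_rfl)
  · show DL (stabV _ (P (decide (i ∈ Δ k)))) 6
    cases decide (i ∈ Δ k)
    · exact h1
    · exact h2
  · refine (hΔ k).of_le ?_
    rintro _ ⟨g, rfl⟩
    exact ⟨⟨_, rfl⟩, MulAction.mem_stabilizer_iff.mpr (hmap k k g g.2.1 g.2.2)⟩

/-- A stabiliser on at most three blocks fixes a uniquely coloured block. -/
lemma fix_unique {Λ : Type*} (P : Λ → Bk.space)
    (hP : ∀ c c', ∀ r ∈ blockGroup Bk, r • P c = P c' → c = c') (δ : Bk.O → Λ) (i₀ : Bk.O)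
    (hu : ∀ i, δ i = δ i₀ → i = i₀) (g : stabV A (vec Bk fun i => P (δ i))) :
    stabPerm Bk _ g i₀ = i₀ :=
  hu _ (label_move Bk P hP g.2.1 g.2.2 i₀).symm

/-- Two blocks over a group with three orbits. -/
theorem five_of_three_two (hR : Three (blockGroup Bk)) (h2 : Nat.card Bk.O = 2) : Five A := by
  obtain ⟨h8, w₁, w₂, hw₁, hw₂, hs1, hs2, hsep⟩ := hR
  let P : Fin 3 → Bk.space := ![0, w₁, w₂]
  have hlab : ∀ c c', ∀ r ∈ blockGroup Bk, r • P c = P c' → c = c' := by
    intro c c' r hr e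
    fin_cases c <;> fin_cases c' <;> simp [P] at e ⊢
    · exact hw₁ e.symm
    · exact hw₂ e.symm
    · exact hw₁ ((smul_eq_zero_iff_eq r).mp e)
    · exact hsep r hr e
    · exact hw₂ ((smul_eq_zero_iff_eq r).mp e)
    · exact hsep r⁻¹ ((blockGroup Bk).inv_mem hr) (by rw [inv_smul_eq_iff, e])
  have h8' : ∀ x : Bk.space, DL (stabV (blockGroup Bk) x) 8 := fun x => h8.of_le inf_le_left
  obtain ⟨i₀, i₁, hne, hall⟩ := Nat.card_eq_two_iff.mp h2
  have hcov : ∀ i : Bk.O, i = i₀ ∨ i = i₁ := fun i => by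
    have : i ∈ ({i₀, i₁} : Set Bk.O) := by rw [hall]; trivial
    simpa using this
  let a : Fin 5 → Fin 3 := ![0, 0, 1, 1, 2]
  let b : Fin 5 → Fin 3 := ![1, 2, 2, 1, 2]
  refine ⟨fun k => vec Bk fun i => P (if i = i₀ then a k else b k), fun k => ?_,
    fun k l hkl g hg e => ?_⟩
  · exact dl_stab Bk _ (fun _ => 8) (k := 1) (by norm_num) (fun i => h8' _) (dl_perm_two h2 _)
      (fun _ => Or.inl le_rfl)
  · have h := label_move Bk P hlab hg e
    refine hkl ?_
    have key : ∀ k l : Fin 5, (a k = a l ∧ b k = b l) ∨ (a k = b l ∧ b k = a l) → k = l := by decide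
    refine key k l ?_
    have h0 := h i₀
    have h1 := h i₁
    simp only [if_true, if_neg hne.symm] at h0 h1
    rcases hcov (Bk.perm ⟨g, hg⟩ i₀) with e0 | e0
    · have e1 : Bk.perm ⟨g, hg⟩ i₁ = i₁ := (hcov _).resolve_left fun e1 =>
        hne ((Bk.perm _).injective (e0.trans e1.symm))
      rw [e0, if_pos rfl] at h0
      rw [e1, if_neg hne.symm] at h1
      exact Or.inl ⟨h0, h1⟩
    · have e1 : Bk.perm ⟨g, hg⟩ i₁ = i₀ := (hcov _).resolve_right fun e1 =>
        hne ((Bk.perm _).injective (e0.trans e1.symm))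
      rw [e0, if_neg hne.symm] at h0
      rw [e1, if_pos rfl] at h1
      exact Or.inr ⟨h0, h1⟩

/-- Colours on three blocks: one block differs from the other two. -/
lemma unique_label {Λ : Type*} (P : Λ → Bk.space)
    (hP : ∀ c c', ∀ r ∈ blockGroup Bk, r • P c = P c' → c = c') (h3 : Nat.card Bk.O = 3)
    (i₀ : Bk.O) {a b a' b' : Λ} (hab : a ≠ b) {g : Aut V} (hg : g ∈ A)
    (e : g • vec Bk (fun i => P (if i = i₀ then a else b)) =
      vec Bk (fun i => P (if i = i₀ then a' else b'))) : a = a' ∧ b = b' := by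
  have h := label_move Bk P hP hg e
  set σ := Bk.perm ⟨g, hg⟩
  obtain ⟨i₁, i₂, h01, h02, h12⟩ : ∃ i₁ i₂ : Bk.O, i₁ ≠ i₀ ∧ i₂ ≠ i₀ ∧ i₁ ≠ i₂ := by
    have hc : 1 < (Finset.univ.erase i₀).card := by
      rw [Finset.card_erase_of_mem (Finset.mem_univ _), Finset.card_univ, ← Nat.card_eq_fintype_card, h3]
      norm_num
    obtain ⟨x, hx, y, hy, hxy⟩ := Finset.one_lt_card.mp hc
    exact ⟨x, y, Finset.ne_of_mem_erase hx, Finset.ne_of_mem_erase hy, hxy⟩
  have h0 := h i₀
  rw [if_pos rfl] at h0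
  have hb : ∀ i, i ≠ i₀ → b = if σ i = i₀ then a' else b' := fun i hi => by
    have := h i; rwa [if_neg hi] at this
  have hfix : σ i₀ = i₀ := by
    by_contra hne
    rw [if_neg hne] at h0
    have h1 := hb i₁ h01
    have h2 := hb i₂ h02
    by_cases e1 : σ i₁ = i₀
    · by_cases e2 : σ i₂ = i₀
      · exact h12 (σ.injective (e1.trans e2.symm))
      · rw [if_neg e2] at h2; exact hab (h0.trans h2.symm)
    · rw [if_neg e1] at h1; exact hab (h0.trans h1.symm)
  rw [if_pos hfix] at h0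
  have h1 := hb i₁ h01
  rw [if_neg fun e1 => h01 (σ.injective (e1.trans hfix.symm))] at h1
  exact ⟨h0, h1⟩

/-- Three blocks over a group with three orbits. -/
theorem five_of_three_three (hR : Three (blockGroup Bk)) (h3 : Nat.card Bk.O = 3) : Five A := by
  obtain ⟨h8, w₁, w₂, hw₁, hw₂, hs1, hs2, hsep⟩ := hR
  let P : Fin 3 → Bk.space := ![0, w₁, w₂]
  have hlab : ∀ c c', ∀ r ∈ blockGroup Bk, r • P c = P c' → c = c' := by
    intro c c' r hr e
    fin_cases c <;> fin_cases c' <;> simp [P] at e ⊢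
    · exact hw₁ e.symm
    · exact hw₂ e.symm
    · exact hw₁ ((smul_eq_zero_iff_eq r).mp e)
    · exact hsep r hr e
    · exact hw₂ ((smul_eq_zero_iff_eq r).mp e)
    · exact hsep r⁻¹ ((blockGroup Bk).inv_mem hr) (by rw [inv_smul_eq_iff, e])
  let a : Fin 5 → Fin 3 := ![0, 1, 0, 2, 1]
  let b : Fin 5 → Fin 3 := ![1, 0, 2, 0, 2]
  let i₀ := Bk.base
  have hab : ∀ k, a k ≠ b k := by decide
  refine ⟨fun k => vec Bk fun i => P (if i = i₀ then a k else b k), fun k => ?_,
    fun k l hkl g hg e => ?_⟩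
  · refine dl_stab Bk _ (fun _ => 8) (k := 1) (by norm_num) (fun i => h8.of_le inf_le_left) ?_
      (fun _ => Or.inl le_rfl)
    refine dl_perm_fix h3 i₀ _ ?_
    rintro _ ⟨g, rfl⟩
    refine fix_unique Bk P hlab _ i₀ (fun i hi => ?_) g
    by_contra hne
    rw [if_pos rfl, if_neg hne] at hi
    exact hab k hi.symm
  · have key : ∀ k l : Fin 5, a k = a l → b k = b l → k = l := by decide
    obtain ⟨h0, h1⟩ := unique_label Bk P hlab h3 i₀ (hab k) hg e
    exact hkl (key k l h0 h1)

/-- At most three blocks over a group with two orbits. -/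
theorem three_of_two (hR : Two (blockGroup Bk)) (hN : Nat.card Bk.O ≤ 3) : Three A := by
  obtain ⟨h6, w, hw, hs⟩ := hR
  let P : Bool → Bk.space := fun c => if c then w else 0
  have hlab := bool_labels Bk (R := blockGroup Bk) (zero_label Bk hw)
  let i₀ := Bk.base
  obtain ⟨i₁, hi₁⟩ : ∃ i : Bk.O, i ≠ i₀ := by
    by_contra h
    push Not at h
    have : Subsingleton Bk.O := ⟨fun x y => (h x).trans (h y).symm⟩
    have := Finite.card_le_one_iff_subsingleton.mpr this
    have := card_O_two Bk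
    omega
  have hk2 : ∀ S : Subgroup (Equiv.Perm Bk.O), DL S 2 := fun S => by
    rcases (show Nat.card Bk.O = 2 ∨ Nat.card Bk.O = 3 by have := card_O_two Bk; omega) with e | e
    · exact (dl_perm_two e S).mono (by norm_num)
    · exact dl_perm_three e S
  refine ⟨dl_whole Bk h6 (hk2 _), vec Bk (fun i => P (decide (i ≠ i₀))), vec Bk (fun _ => w),
    vec_ne_zero Bk i₁ (by simp [P, hi₁, hw]), vec_ne_zero Bk i₀ hw, ?_,
    dl_stab Bk _ (fun _ => 4) (k := 2) (by norm_num) (fun _ => hs) (hk2 _) (fun _ => Or.inl le_rfl),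
    fun g hg e => ?_⟩
  · have hfix : ∀ g, stabPerm Bk (vec Bk fun i => P (decide (i ≠ i₀))) g i₀ = i₀ := fun g =>
      fix_unique Bk P hlab _ i₀ (fun i hi => by simpa using hi) g
    refine dl_stab Bk _ (fun i => if i = i₀ then 6 else 4) (k := 1) (by norm_num) (fun i => ?_) ?_
      (fun i => ?_)
    · by_cases hi : i = i₀
      · rw [if_pos hi]; exact h6.of_le inf_le_left
      · show DL (stabV _ (P (decide (i ≠ i₀)))) _
        rw [if_neg hi, decide_eq_true hi]
        exact hs
    · rcases (show Nat.card Bk.O = 2 ∨ Nat.card Bk.O = 3 by have := card_O_two Bk; omega) with e | e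
      · exact dl_perm_two e _
      · refine dl_perm_fix e i₀ _ ?_
        rintro _ ⟨g, rfl⟩
        exact hfix g
    · by_cases hi : i = i₀
      · exact Or.inr ⟨fun g => hi ▸ hfix g, by rw [if_pos hi]⟩
      · exact Or.inl (by rw [if_neg hi]; norm_num)
  · have h := label_move Bk P hlab (δ := fun i => decide (i ≠ i₀)) (δ' := fun _ => true) hg e i₀
    simp at h

/-- A group with blocks permuted primitively is good if the group on a block is. -/
theorem good_blocks (hsub : SubsetBound.{u}) (hsol : Group.IsSolvable A)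
    (hprim : ∀ B : Set Bk.O, MulAction.IsBlock Bk.perm.range B → B.Subsingleton ∨ B = Set.univ)
    (hR : Good (blockGroup Bk)) : Good A := by
  rcases hR with h | h | h
  · exact Or.inl (five_of_five Bk hsol h)
  · by_cases hN : Nat.card Bk.O ≤ 3
    · exact Or.inr (Or.inr (three_of_two Bk h hN))
    · obtain ⟨h6, w, hw, hs⟩ := h
      exact Or.inl (five_of_pair Bk hsub hsol hprim (by omega) (zero_label Bk hw)
        (h6.of_le inf_le_left) (hs.mono (by norm_num)))
  · by_cases hN : Nat.card Bk.O ≤ 3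
    · rcases (show Nat.card Bk.O = 2 ∨ Nat.card Bk.O = 3 by have := card_O_two Bk; omega) with e | e
      · exact Or.inl (five_of_three_two Bk h e)
      · exact Or.inl (five_of_three_three Bk h e)
    · obtain ⟨-, w₁, w₂, -, -, hs1, hs2, hsep⟩ := h
      exact Or.inl (five_of_pair Bk hsub hsol hprim (by omega) hsep hs1 hs2)

end CfsgLib.StabLength
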