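import Cfsg.Agent.OddBase.Basic
import Mathlib.GroupTheory.Solvable
import Mathlib.Algebra.Group.Pointwise.Set.Basic
import Mathlib.Algebra.Group.Action.Pointwise.Set.Basic
import Mathlib.GroupTheory.GroupAction.Defs

/-!
Derived lengths of stabilisers: vocabulary and basic lemmas (S4070).
-/

set_option autoImplicit false
set_option linter.unusedSectionVars false

universe u

namespace CfsgLib.StabLength

open OddBase Subgroup
open scoped Pointwise commutatorElement

/-- Derived length at most `n`. -/
def DL (G : Type*) [Group G] (n : ℕ) : Prop := derivedSeries G n = ⊥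

section DL

variable {G H : Type*} [Group G] [Group H]

theorem DL.mono {m n : ℕ} (h : DL G m) (hmn : m ≤ n) : DL G n :=
  le_bot_iff.mp (h ▸ derivedSeries_antitone G hmn)

theorem DL.of_injective {n : ℕ} (f : G →* H) (hf : Function.Injective f) (h : DL H n) : DL G n := by
  have h1 := map_derivedSeries_le_derivedSeries f n
  rw [h, le_bot_iff] at h1
  exact ((derivedSeries G n).map_eq_bot_iff_of_injective hf).mp h1

theorem DL.of_surjective {n : ℕ} (f : G →* H) (hf : Function.Surjective f) (h : DL G n) :
    DL H n := by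
  show derivedSeries H n = ⊥
  rw [← map_derivedSeries_eq hf n, h, Subgroup.map_bot]

theorem DL.of_le {K L : Subgroup G} {n : ℕ} (hle : K ≤ L) (h : DL L n) : DL K n :=
  h.of_injective (Subgroup.inclusion hle) (Subgroup.inclusion_injective hle)

theorem derivedSeries_add_le (m n : ℕ) :
    derivedSeries G (m + n) ≤ (derivedSeries (derivedSeries G m) n).map (derivedSeries G m).subtype := by
  induction n with
  | zero => rw [derivedSeries_zero, ← MonoidHom.range_eq_map, Subgroup.range_subtype, add_zero]
  | succ n ih =>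
    rw [← add_assoc, derivedSeries_succ, derivedSeries_succ, map_commutator]
    exact commutator_mono ih ih

/-- The extension bound. -/
theorem DL.of_ker {a b : ℕ} (f : G →* H) (hq : DL H a) (hk : DL f.ker b) : DL G (a + b) := by
  have hle : derivedSeries G a ≤ f.ker := by
    have h1 := map_derivedSeries_le_derivedSeries f a
    rwa [hq, le_bot_iff, Subgroup.map_eq_bot_iff] at h1
  have h2 : DL (derivedSeries G a) b := hk.of_le hle
  refine le_bot_iff.mp ((derivedSeries_add_le a b).trans ?_)
  rw [h2, Subgroup.map_bot]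

theorem DL.of_comm (h : ∀ a b : G, a * b = b * a) : DL G 1 := by
  rw [DL, derivedSeries_one, commutator_eq_closure, Subgroup.closure_eq_bot_iff]
  rintro x ⟨a, b, rfl⟩
  rw [commutatorElement_eq_one_iff_mul_comm.mpr (h a b)]
  exact Set.mem_singleton 1

theorem DL.of_subsingleton [Subsingleton G] (n : ℕ) : DL G n := Subsingleton.elim _ _

theorem DL.pi {ι : Type*} {K : ι → Type*} [∀ i, Group (K i)] {n : ℕ} (h : ∀ i, DL (K i) n) :
    DL ((i : ι) → K i) n := by
  refine (Subgroup.eq_bot_iff_forall _).mpr fun x hx => funext fun i => ?_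
  have h1 := map_derivedSeries_le_derivedSeries (Pi.evalMonoidHom K i) n ⟨x, hx, rfl⟩
  rw [h i] at h1
  exact h1

theorem DL.prod {n : ℕ} (h1 : DL G n) (h2 : DL H n) : DL (G × H) n := by
  refine (Subgroup.eq_bot_iff_forall _).mpr fun x hx => Prod.ext ?_ ?_
  · have h := map_derivedSeries_le_derivedSeries (MonoidHom.fst G H) n ⟨x, hx, rfl⟩
    rw [h1] at h; exact h
  · have h := map_derivedSeries_le_derivedSeries (MonoidHom.snd G H) n ⟨x, hx, rfl⟩
    rw [h2] at h; exact h

end DL

variable {V : Type u} [AddCommGroup V]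

/-- The stabiliser of a vector in a linear group. -/
def stabV (A : Subgroup (Aut V)) (v : V) : Subgroup (Aut V) :=
  A ⊓ MulAction.stabilizer (Aut V) v

/-- The setwise stabiliser of a subset in a permutation group. -/
def setStab {Ω : Type*} (S : Subgroup (Equiv.Perm Ω)) (Δ : Set Ω) : Subgroup (Equiv.Perm Ω) :=
  S ⊓ MulAction.stabilizer (Equiv.Perm Ω) Δ

/-- Five vectors in different orbits with stabilisers of derived length at most nine. -/
def Five (A : Subgroup (Aut V)) : Prop :=
  ∃ v : Fin 5 → V, (∀ i, DL (stabV A (v i)) 9) ∧ ∀ i j, i ≠ j → ∀ a ∈ A, a • v i ≠ v j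

/-- Derived length at most six and a non-zero vector with stabiliser of length at most four. -/
def Two (A : Subgroup (Aut V)) : Prop :=
  DL A 6 ∧ ∃ w : V, w ≠ 0 ∧ DL (stabV A w) 4

/-- Derived length at most eight and two non-zero orbits with stabilisers of length at most six. -/
def Three (A : Subgroup (Aut V)) : Prop :=
  DL A 8 ∧ ∃ w₁ w₂ : V, w₁ ≠ 0 ∧ w₂ ≠ 0 ∧ DL (stabV A w₁) 6 ∧ DL (stabV A w₂) 6 ∧
    ∀ a ∈ A, a • w₁ ≠ w₂

/-- The three possibilities for an irreducible group. -/
def Good (A : Subgroup (Aut V)) : Prop := Five A ∨ Two A ∨ Three A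

theorem Good.exists_vector {A : Subgroup (Aut V)} (h : Good A) : ∃ v : V, DL (stabV A v) 9 := by
  rcases h with ⟨v, hv, -⟩ | ⟨-, w, -, hw⟩ | ⟨-, w, -, -, -, hw, -, -⟩
  · exact ⟨v 0, hv 0⟩
  · exact ⟨w, hw.mono (by norm_num)⟩
  · exact ⟨w, hw.mono (by norm_num)⟩

end CfsgLib.StabLength
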