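import Cfsg.Agent.StabLength.Defs
import Cfsg.Agent.OddBase.BlockPair

/-!
Stabilisers of vectors given by colourings of the blocks.
-/

set_option autoImplicit false
set_option linter.unusedSectionVars false
set_option linter.style.haveILetI false

universe u

namespace CfsgLib.StabLength

open OddBase
open scoped Classical Pointwise

variable {V : Type u} [AddCommGroup V] {A : Subgroup (Aut V)}

/-- The group induced on the base block. -/
noncomputable def blockGroup (Bk : Blocks A) : Subgroup (Aut Bk.space) :=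
  (res Bk.stab Bk.space Bk.inv_space).range

/-- The vector with given coordinates in the blocks. -/
noncomputable def vec (Bk : Blocks A) (f : Bk.O → Bk.space) : V :=
  ∑ i : Bk.O, Bk.rep i • (f i : V)

variable (Bk : Blocks A)

lemma proj_vec (f : Bk.O → Bk.space) (j : Bk.O) :
    (j : AddMonoid.End V) (vec Bk f) = Bk.rep j • (f j : V) := by
  rw [vec, map_sum, Finset.sum_eq_single j (fun k _ hk => by rw [Bk.proj_rep j k (f k).2, if_neg (Ne.symm hk)])
    (fun h => absurd (Finset.mem_univ j) h), Bk.proj_rep j j (f j).2, if_pos rfl]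

lemma vec_injective : Function.Injective (vec Bk) := fun f g h => funext fun i => by
  have h1 := proj_vec Bk f i
  rw [h, proj_vec] at h1
  exact Subtype.ext (smul_left_cancel _ h1.symm)

lemma vec_zero : vec Bk (fun _ => 0) = 0 := by
  rw [vec]
  exact Finset.sum_eq_zero fun i _ => by rw [AddSubgroup.coe_zero, smul_zero]

/-- The coordinate element of an element at a block. -/
noncomputable def coord (a : A) (i : Bk.O) : Aut Bk.space :=
  res Bk.stab Bk.space Bk.inv_space ⟨_, Bk.key_stab a i⟩

lemma coord_mem (a : A) (i : Bk.O) : coord Bk a i ∈ blockGroup Bk := ⟨_, rfl⟩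

lemma coord_mul {a b : A} {i : Bk.O} (hb : Bk.perm b i = i) (ha : Bk.perm a i = i) :
    coord Bk (a * b) i = coord Bk a i * coord Bk b i := by
  rw [coord, coord, coord, ← map_mul]
  congr 1
  refine Subtype.ext ?_
  have hab : Bk.perm (a * b) i = i := by rw [map_mul, Equiv.Perm.mul_apply, hb, ha]
  simp only [Subgroup.coe_mul, hab, ha, hb]
  group

/-- The effect of an element on coordinates. -/
lemma move {a : A} {f g : Bk.O → Bk.space} (h : (a : Aut V) • vec Bk f = vec Bk g) (i : Bk.O) :
    coord Bk a i • f i = g (Bk.perm a i) := by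
  have h1 := cj_apply_smul (a : Aut V) (i : AddMonoid.End V) (vec Bk f)
  rw [h, show cj (a : Aut V) i = (Bk.perm a i : AddMonoid.End V) from rfl, proj_vec, proj_vec] at h1
  refine Subtype.ext ?_
  rw [coord, res_smul]
  show ((Bk.rep (Bk.perm a i))⁻¹ * (a : Aut V) * Bk.rep i) • (f i : V) = _
  rw [mul_smul, mul_smul, ← h1, inv_smul_smul]

/-- Labels in different orbits are permuted as the blocks are. -/
lemma label_move {Λ : Type*} (P : Λ → Bk.space)
    (hP : ∀ c c', ∀ r ∈ blockGroup Bk, r • P c = P c' → c = c')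
    {a : Aut V} (ha : a ∈ A) {δ δ' : Bk.O → Λ}
    (h : a • vec Bk (fun i => P (δ i)) = vec Bk (fun i => P (δ' i))) (i : Bk.O) :
    δ i = δ' (Bk.perm ⟨a, ha⟩ i) :=
  hP _ _ _ (coord_mem Bk ⟨a, ha⟩ i) (move Bk (a := ⟨a, ha⟩) h i)

/-- The permutations induced by the stabiliser of a vector. -/
noncomputable def stabPerm (v : V) : stabV A v →* Equiv.Perm Bk.O :=
  Bk.perm.comp (Subgroup.inclusion inf_le_left)

lemma coord_one (i : Bk.O) : coord Bk 1 i = 1 := by
  refine (res_eq_one_iff _ _).mpr fun y _ => ?_
  show ((Bk.rep (Bk.perm 1 i))⁻¹ * ((1 : A) : Aut V) * Bk.rep i) • y = y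
  simp

/-- The coordinate homomorphism on elements fixing a block and a vector. -/
noncomputable def coordHom {G : Type*} [Group G] (ψ : G →* A) (i : Bk.O)
    (hi : ∀ g, Bk.perm (ψ g) i = i) (f : Bk.O → Bk.space)
    (hf : ∀ g, ((ψ g : A) : Aut V) • vec Bk f = vec Bk f) : G →* stabV (blockGroup Bk) (f i) where
  toFun g := ⟨coord Bk (ψ g) i, coord_mem Bk _ i, show coord Bk (ψ g) i • f i = f i by
    rw [move Bk (hf g) i, hi]⟩
  map_one' := Subtype.ext (show coord Bk (ψ 1) i = 1 by rw [map_one, coord_one])
  map_mul' g g' := Subtype.ext (show coord Bk (ψ (g * g')) i = coord Bk (ψ g) i * coord Bk (ψ g') i by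
    rw [map_mul, coord_mul Bk (hi g') (hi g)])

/-- The stabiliser of a coloured vector: coordinates fixed by the stabiliser count without the
permutations. -/
theorem dl_stab (f : Bk.O → Bk.space) (n : Bk.O → ℕ) {k m : ℕ} (hkm : k ≤ m)
    (hn : ∀ i, DL (stabV (blockGroup Bk) (f i)) (n i))
    (hperm : DL (stabPerm Bk (vec Bk f)).range k)
    (hle : ∀ i, k + n i ≤ m ∨
      ((∀ g : stabV A (vec Bk f), stabPerm Bk (vec Bk f) g i = i) ∧ n i ≤ m)) :
    DL (stabV A (vec Bk f)) m := by
  set G := stabV A (vec Bk f)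
  set π := stabPerm Bk (vec Bk f)
  have hker : ∀ g ∈ derivedSeries G k, π g = 1 := by
    intro g hg
    have h := map_derivedSeries_le_derivedSeries π.rangeRestrict k ⟨g, hg, rfl⟩
    rw [hperm, Subgroup.mem_bot] at h
    exact congrArg Subtype.val h
  refine (Subgroup.eq_bot_iff_forall _).mpr fun g hg => ?_
  have hπ : π g = 1 := hker g (derivedSeries_antitone G hkm hg)
  have hc : ∀ i, coord Bk (Subgroup.inclusion inf_le_left g : A) i = 1 := by
    intro i
    rcases hle i with hle | ⟨hfix, hle⟩
    · obtain ⟨d, hd, hdg⟩ := derivedSeries_add_le k (n i) (derivedSeries_antitone G hle hg)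
      let ψ := coordHom Bk ((Subgroup.inclusion inf_le_left).comp (derivedSeries G k).subtype) i
        (fun d => Equiv.Perm.ext_iff.mp (hker _ d.2) i) f (fun d => (d : G).2.2)
      have h := map_derivedSeries_le_derivedSeries ψ (n i) ⟨d, hd, rfl⟩
      rw [hn i, Subgroup.mem_bot] at h
      rw [← hdg]
      exact congrArg Subtype.val h
    · let ψ := coordHom Bk (Subgroup.inclusion (inf_le_left : G ≤ A)) i hfix f (fun d => d.2.2)
      have h := map_derivedSeries_le_derivedSeries ψ (n i)
        ⟨g, derivedSeries_antitone G hle hg, rfl⟩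
      rw [hn i, Subgroup.mem_bot] at h
      exact congrArg Subtype.val h
  have := Bk.faith (Subgroup.inclusion inf_le_left g) hπ fun i y hy => by
    have e : Bk.perm (Subgroup.inclusion inf_le_left g) i = i := Equiv.Perm.ext_iff.mp hπ i
    have h := (res_eq_one_iff _ _).mp (hc i) y hy
    simp only [e] at h
    exact h
  exact Subgroup.inclusion_injective inf_le_left (this.trans (map_one _).symm)

/-- The whole group. -/
theorem dl_whole {n k : ℕ} (hn : DL (blockGroup Bk) n) (hk : DL Bk.perm.range k) : DL A (k + n) := by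
  have h0 : stabV A (0 : V) = A := inf_eq_left.mpr fun a _ => smul_zero a
  have h := dl_stab Bk (fun _ => 0) (fun _ => n) (Nat.le_add_right k n)
    (fun _ => hn.of_le inf_le_left) ?_ (fun _ => Or.inl le_rfl)
  · rw [vec_zero, h0] at h
    exact h
  · refine hk.of_le ?_
    rintro _ ⟨g, rfl⟩
    exact ⟨_, rfl⟩

end CfsgLib.StabLength
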